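import Cfsg.Agent.H992.MU.Mult
import Cfsg.Agent.H40.MU.Braid6

/-!
# `MultOne` for every root group datum, bonds of order six included (helper40, after helper992)

The statements of `H992/MU/{Pin,Mult}` without the hypothesis `M i j ≠ 6`.
-/

set_option autoImplicit false
set_option linter.unusedSectionVars false

namespace Cfsg.Agent.H40.MU

open Cfsg.Agent.Characters
open Cfsg.Agent.H53.HC Cfsg.Agent.H641.Gow Cfsg.Agent.H148.GG

open CoxeterSystem Cfsg.Agent.ChevalleyStructure.CoxeterGeom Cfsg.Agent.Tits.Roots Cfsg.Agent.Tits.Core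
  Cfsg.Agent.Tits.Exchange Cfsg.Agent.Nodes.Reps Cfsg.Agent.Nodes.BNOf Cfsg.Agent.Nodes.StabComb
  Cfsg.Agent.Nodes.Bruhat Cfsg.Agent.Nodes.OppDec Cfsg.Agent.Nodes.LeviDec Cfsg.Agent.H992.MU

variable {I W Y : Type*} [Fintype I] [DecidableEq I] [Group W] [Group Y] {M : CoxeterMatrix I}
  {cs : CoxeterSystem M W} {A : I → I → ℤ} {h : IsCartan M A} {p : ℕ} {T : Subgroup Y} {n : I → Y}
  {X : (I → ℤ) → Subgroup Y}

section Pin

variable (R : RGD cs h p T n X)

include R

/-- **pinnings** -/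
theorem exists_pin [Finite W] {e : I → Y} (he : ∀ i, e i ∈ X (sr i)) (hne : ∀ i, e i ≠ 1) :
    ∃ n' : I → Y, RGD cs h p T n' X ∧ Cfsg.Agent.H92.GG.Pin cs h n' X Set.univ e := by
  choose c m hm using fun i => exists_mu R i (he i) (hne i)
  refine ⟨m, rgd_chn R fun i => ?_, ⟨fun i _ => he i, fun i _ => ?_, fun i j hij _ => ?_⟩⟩
  · have := (hm i).2.2.1
    rwa [one_mul, inv_one, mul_one] at this
  · obtain ⟨h1, h2, -, b, h3, h4⟩ := hm i
    rw [map_one, Module.End.one_apply] at h2 h3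
    exact ⟨b, h3, c i, h2, h4⟩
  · rcases h.rel i j hij with h1 | h1 | h1 | h1
    · rw [h1.1]
      simp only [Cfsg.Agent.ParSys.alt, List.map_cons, List.map_nil, List.prod_cons, List.prod_nil, mul_one]
      exact braid2 R hij (hm i) (hm j) h1.1
    · rw [h1.1]
      simp only [Cfsg.Agent.ParSys.alt, List.map_cons, List.map_nil, List.prod_cons, List.prod_nil, mul_one]
      rw [← mul_assoc, ← mul_assoc]
      exact braid3 R hij (hm i) (hm j) h1.1
    · rw [h1.1]
      simp only [Cfsg.Agent.ParSys.alt, List.map_cons, List.map_nil, List.prod_cons, List.prod_nil, mul_one]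
      rw [← mul_assoc, ← mul_assoc, ← mul_assoc, ← mul_assoc]
      exact braid4 R hij (hm i) (hm j) h1.1
    · rw [h1.1]
      simp only [Cfsg.Agent.ParSys.alt, List.map_cons, List.map_nil, List.prod_cons, List.prod_nil, mul_one]
      have h2 := braid6 R hij (hm i) (hm j) h1.1
      simp only [mul_assoc] at h2 ⊢
      exact h2

end Pin

section Mult

variable [Finite W] (R : RGD cs h p T n X) {F : I → Type*} [∀ i, Field (F i)] [∀ i, Finite (F i)] (D : Adj T X F)
  [hp : Fact p.Prime] {φ : Y → Y} (hφ : Cfsg.Agent.H92.GG.Anti cs h T X φ)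

include R D hφ

/-- **Multiplicity one from a root group datum, coordinates and an anti-automorphism.** -/
theorem multOne_gen [Finite Y]
    (hE : ∀ i, ∃ (e : Y) (he : e ∈ X (sr i)), D.x i ⟨e, he⟩ = Multiplicative.ofAdd 1 ∧ InvE D i e)
    (hU : ∀ i (e e' : Y) (he : e ∈ X (sr i)) (he' : e' ∈ X (sr i)), D.x i ⟨e, he⟩ = D.x i ⟨e', he'⟩ →
      InvE D i e → InvE D i e' → e = e') : Cfsg.Agent.H743.GG.MultOne cs h T X := by
  classical
  choose e he hx hI using hE
  have hne : ∀ i, e i ≠ 1 := by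
    intro i h1
    have h2 : (⟨e i, he i⟩ : ↥(X (sr i))) = 1 := Subtype.ext h1
    have h3 := hx i
    rw [h2, map_one] at h3
    exact zero_ne_one (α := F i) (congrArg Multiplicative.toAdd h3)
  obtain ⟨n', R', P⟩ := exists_pin R he hne
  obtain ⟨ψ, hψ, hval⟩ := exists_psi R' D
  refine Cfsg.Agent.H743.GG.multOne_pin R' D hφ P hψ ?_
  intro i _ j _ w g _ hg hw hψg
  have hCi : CharP (F i) p := charP_F R' D i
  have hCj : CharP (F j) p := charP_F R' D j
  obtain ⟨σ, c, hc, hs⟩ := semi R' D hφ hg hw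
  have hUJ : ∀ (k : I) (u : Y), u ∈ X (sr k) → u ∈ UJ cs h X Set.univ := fun k u hu =>
    RGD.le_Sup (S := PosJ cs h Set.univ) (sr_mem_PosJ (Set.mem_univ k)) hu
  have h1 : c = 1 := by
    refine scalar_eq_one (zc_ne_one p (F j)) fun s => ?_
    obtain ⟨u, hu⟩ := D.surjX i (Multiplicative.ofAdd (σ.symm s))
    have h2 := hψg u u.2
    rw [Cfsg.Agent.H92.GG.ext_of_mem ψ (hUJ i u u.2),
      Cfsg.Agent.H92.GG.ext_of_mem ψ (hUJ j _ (beta_mem R' hφ hg hw u.2))] at h2
    have h3 := congrArg (fun z : ℂˣ => (z : ℂ)) h2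
    rw [hval i u u.2, hval j _ (beta_mem R' hφ hg hw u.2), hs u u.2 (beta_mem R' hφ hg hw u.2)] at h3
    have h4 : Multiplicative.toAdd (D.x i ⟨(u : Y), u.2⟩) = σ.symm s := by
      have : (⟨(u : Y), u.2⟩ : ↥(X (sr i))) = u := rfl
      rw [this, hu]; rfl
    rw [h4, RingEquiv.apply_symm_apply, ← zc_iso p (F i) σ, RingEquiv.apply_symm_apply] at h3
    exact h3
  have hm := beta_mem R' hφ hg hw (he i)
  refine hU j _ _ hm (he j) ?_ (InvE.beta R' D hφ hg hw (hI i)) (hI j)
  have h2 := hs (e i) (he i) hm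
  rw [hx i, h1, toAdd_ofAdd, map_one, mul_one] at h2
  rw [hx j]
  exact congrArg Multiplicative.ofAdd h2

/-- **The same if the simple root groups are the additive groups of the fields.** -/
theorem multOne [Finite Y] (hinj : ∀ i, Function.Injective (D.x i)) :
    Cfsg.Agent.H743.GG.MultOne cs h T X := by
  have hconj : ∀ (k : I) (s : Y), s ∈ T → ∀ u ∈ X (sr k), s * u * s⁻¹ ∈ X (sr k) := by
    intro k s hsT u hu
    have := R.tor _ (isRoot_sr cs h k) s hsT
    rw [← this]
    exact conj_mem_cj.2 hu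
  refine multOne_gen R D hφ (fun i => ?_) fun i e e' he he' hee _ _ => congrArg Subtype.val (hinj i hee)
  obtain ⟨u, hu⟩ := D.surjX i (Multiplicative.ofAdd 1)
  refine ⟨u, u.2, hu, fun t ht => ?_⟩
  have h1 := D.act i t u (hconj i t t.2 u u.2)
  rw [ht, neg_one_mul] at h1
  have h2 : (⟨(t : Y) * (u : Y) * (t : Y)⁻¹, hconj i t t.2 u u.2⟩ : ↥(X (sr i))) = u⁻¹ := by
    apply hinj i
    rw [map_inv]
    exact h1
  exact congrArg Subtype.val h2

end Mult

end Cfsg.Agent.H40.MU
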